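import Mathlib

/-!
# S5932: the optimal direction (abstract form) (helper48)

`St : G → Set E` is the set of weights which occur after a translation by `g`.  `IsCl B S β` : `β` is the point of the
convex hull of `S` which is closest to `0`.  `exists_opt` : there is an optimal pair `(g, β)` with `β` dominant;
`Opt.fix` : uniqueness of the optimal coset.
-/

set_option autoImplicit false

namespace Cfsg.Agent.E7P.Kf

section
variable {E : Type*} [NormedAddCommGroup E] [NormedSpace ℝ E] (B : E →ₗ[ℝ] E →ₗ[ℝ] ℝ)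

/-- symmetric positive definite continuous forms -/
structure PD : Prop where
  symm : ∀ x y, B x y = B y x
  pos : ∀ x, x ≠ 0 → 0 < B x x
  cont : Continuous fun x => B x x

/-- the point of the convex hull which is closest to `0` -/
def IsCl (S : Set E) (β : E) : Prop := β ∈ convexHull ℝ S ∧ ∀ s ∈ S, B β β ≤ B β s

variable {B}

theorem PD.nonneg (h : PD B) (x : E) : 0 ≤ B x x := by
  by_cases hx : x = 0
  · rw [hx]; simp
  · exact (h.pos x hx).le

theorem le_of_hull {S : Set E} {l : E} {c : ℝ} (hS : ∀ s ∈ S, c ≤ B l s) {y : E} (hy : y ∈ convexHull ℝ S) :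
    c ≤ B l y :=
  convexHull_min (t := {y | c ≤ B l y}) hS (convex_halfSpace_ge (B l).isLinear c) hy

theorem lt_of_hull {S : Set E} {l : E} {c : ℝ} (hS : ∀ s ∈ S, c < B l s) {y : E} (hy : y ∈ convexHull ℝ S) :
    c < B l y :=
  convexHull_min (t := {y | c < B l y}) hS (convex_halfSpace_gt (B l).isLinear c) hy

theorem PD.eq_of_le (h : PD B) {x y : E} (h1 : B x x ≤ B x y) (h2 : B y y ≤ B x x) : x = y := by
  by_contra hne
  have h3 := h.pos (x - y) (sub_ne_zero.2 hne)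
  simp only [map_sub, LinearMap.sub_apply] at h3
  have h4 := h.symm x y
  linarith

theorem PD.le_of_le (h : PD B) {x y : E} (h1 : B x x ≤ B x y) : B x x ≤ B y y := by
  have h3 := h.nonneg (x - y)
  simp only [map_sub, LinearMap.sub_apply] at h3
  have h4 := h.symm x y
  linarith

theorem PD.cl_unique (h : PD B) {S : Set E} {β γ : E} (h1 : IsCl B S β) (h2 : IsCl B S γ) : β = γ := by
  have a1 := le_of_hull h1.2 h2.1
  have a2 := le_of_hull h2.2 h1.1
  exact h.eq_of_le a1 (h.le_of_le a2)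

theorem PD.exists_cl (h : PD B) {S : Set E} (hf : S.Finite) (hn : S.Nonempty) : ∃ β, IsCl B S β := by
  obtain ⟨β, hβ, hmin⟩ := (hf.isCompact_convexHull ℝ).exists_isMinOn (hn.mono (subset_convexHull ℝ S))
    h.cont.continuousOn
  refine ⟨β, hβ, fun s hs => ?_⟩
  by_contra hlt
  rw [not_le] at hlt
  set d := B β β - B β s with hd
  have hd0 : 0 < d := by rw [hd]; linarith
  set e := B (s - β) (s - β) with he
  have he0 : 0 ≤ e := h.nonneg _
  set t := d / (d + e) with ht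
  have hde : 0 < d + e := by linarith
  have ht0 : 0 < t := div_pos hd0 hde
  have ht1 : t ≤ 1 := by rw [ht, div_le_one hde]; linarith
  have hte : t * e ≤ d := by
    rw [ht, div_mul_eq_mul_div, div_le_iff₀ hde]
    nlinarith
  have hmem : β + t • (s - β) ∈ convexHull ℝ S :=
    (convex_convexHull ℝ S).add_smul_sub_mem hβ (subset_convexHull ℝ S hs) ⟨ht0.le, ht1⟩
  have h1 : B β β ≤ B (β + t • (s - β)) (β + t • (s - β)) := hmin hmem
  have h2 : B (β + t • (s - β)) (β + t • (s - β)) = B β β + 2 * t * B β (s - β) + t * t * e := by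
    rw [he]
    simp only [map_add, map_smul, LinearMap.add_apply, LinearMap.smul_apply, smul_eq_mul]
    rw [h.symm (s - β) β]
    ring
  have h3 : B β (s - β) = -d := by rw [map_sub, hd]; ring
  rw [h2, h3] at h1
  nlinarith

theorem IsCl.map {S : Set E} {β : E} (h1 : IsCl B S β) (w : E →ₗ[ℝ] E) (hw : ∀ x y, B (w x) (w y) = B x y) :
    IsCl B (w '' S) (w β) := by
  refine ⟨?_, ?_⟩
  · rw [← w.image_convexHull]
    exact ⟨β, h1.1, rfl⟩
  · rintro _ ⟨s, hs, rfl⟩
    rw [hw, hw]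
    exact h1.2 s hs

variable (B) in
/-- optimal pairs -/
def Opt {G : Type*} (St : G → Set E) (g : G) (β : E) : Prop :=
  IsCl B (St g) β ∧ ∀ g' β', IsCl B (St g') β' → B β' β' ≤ B β β

variable {G : Type*} {St : G → Set E}

theorem Opt.move' (h : PD B) {g g' : G} {β β' : E} (ho : Opt B St g β) (hf : (St g').Finite) (hn : (St g').Nonempty)
    (he : B β' β' = B β β) (hs : ∀ s ∈ St g', B β' β' ≤ B β' s) : Opt B St g' β' := by
  obtain ⟨γ, hγ⟩ := h.exists_cl hf hn
  have h1 := le_of_hull hs hγ.1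
  have h2 := h.eq_of_le h1 (he ▸ ho.2 g' γ hγ)
  rw [← h2] at hγ
  exact ⟨hγ, fun a b hab => he ▸ ho.2 a b hab⟩

theorem Opt.move (h : PD B) {g g' : G} {β : E} (ho : Opt B St g β) (hf : (St g').Finite) (hn : (St g').Nonempty)
    (hs : ∀ s ∈ St g', B β β ≤ B β s) : Opt B St g' β := ho.move' h hf hn rfl hs

/-- **existence of a dominant optimal pair** -/
theorem exists_opt [Group G] (h : PD B) {Ω : Set E} (hΩ : Ω.Finite) (hsub : ∀ g, St g ⊆ Ω) (hn : ∀ g, (St g).Nonempty)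
    {ι : Type*} (a : ι → E) (ρ : E) (hρ : ∀ i, 0 < B ρ (a i)) (n : ι → G) (s : ι → E →ₗ[ℝ] E)
    (hs : ∀ i x, s i x = x - B x (a i) • a i) (hiso : ∀ i x y, B (s i x) (s i y) = B x y)
    (hst : ∀ i g, St (g * n i) ⊆ s i '' St g) :
    ∃ g β, Opt B St g β ∧ ∀ i, 0 ≤ B β (a i) := by
  have hfin : {β | ∃ g, IsCl B (St g) β}.Finite := by
    have h1 : {β | ∃ g, IsCl B (St g) β} ⊆ ⋃ S ∈ {S | S ⊆ Ω}, {β | IsCl B S β} := by
      rintro β ⟨g, hg⟩
      exact Set.mem_biUnion (show St g ∈ {S | S ⊆ Ω} from hsub g) hg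
    refine Set.Finite.subset (Set.Finite.biUnion hΩ.finite_subsets fun S _ => ?_) h1
    exact Set.Subsingleton.finite fun x hx y hy => h.cl_unique hx hy
  obtain ⟨β1, hβ1⟩ := h.exists_cl (hΩ.subset (hsub 1)) (hn 1)
  obtain ⟨β2, ⟨g2, hg2⟩, hmax⟩ := hfin.exists_maximalFor (fun β => B β β) _ ⟨β1, 1, hβ1⟩
  have ho2 : Opt B St g2 β2 := ⟨hg2, fun g' β' h' => by
    by_contra hlt
    rw [not_le] at hlt
    exact absurd (hmax ⟨g', h'⟩ hlt.le) (not_le.2 hlt)⟩
  have hfin2 : {β | ∃ g, Opt B St g β}.Finite := hfin.subset fun β ⟨g, hg⟩ => ⟨g, hg.1⟩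
  obtain ⟨β, ⟨g, hg⟩, hmax2⟩ := hfin2.exists_maximalFor (fun β => B ρ β) _ ⟨β2, g2, ho2⟩
  refine ⟨g, β, hg, fun i => ?_⟩
  by_contra hlt
  rw [not_le] at hlt
  have h1 : Opt B St (g * n i) (s i β) := by
    refine hg.move' h (hΩ.subset (hsub _)) (hn _) (hiso i β β) fun x hx => ?_
    exact (hg.1.map _ (hiso i)).2 x (hst i g hx)
  have h2 : B ρ β < B ρ (s i β) := by
    rw [hs, map_sub, map_smul, smul_eq_mul]
    have := mul_neg_of_neg_of_pos hlt (hρ i)
    linarith
  exact absurd (hmax2 ⟨_, h1⟩ h2.le) (not_le.2 h2)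

/-- **uniqueness**: the middle term of the decomposition fixes the optimal direction -/
theorem Opt.fix [Group G] (h : PD B) {g g' b n b' : G} {β : E} (ho : Opt B St g β) (ho' : IsCl B (St g') β)
    (hf : ∀ g, (St g).Finite) (hn : ∀ g, (St g).Nonempty) (hg : g' = g * b * n * b')
    (hb : ∀ x, (∀ s ∈ St x, B β β ≤ B β s) → ∀ s ∈ St (x * b), B β β ≤ B β s)
    (hb' : ∀ x, (∀ s ∈ St x, B β β ≤ B β s) → ∀ s ∈ St (x * b'⁻¹), B β β ≤ B β s)
    (w : E →ₗ[ℝ] E) (hw : ∀ x y, B (w x) (w y) = B x y) (hst : ∀ x, St x ⊆ w '' St (x * n)) : w β = β := by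
  have h1 : Opt B St (g * b) β := ho.move h (hf _) (hn _) (hb g ho.1.2)
  have h2 : Opt B St (g' * b'⁻¹) β := ho.move h (hf _) (hn _) (hb' g' ho'.2)
  have h3 : g' * b'⁻¹ = g * b * n := by rw [hg, mul_inv_cancel_right]
  rw [h3] at h2
  have h4 := h2.1.map w hw
  have h5 := h1.move' h (hf _) (hn _) (hw β β) fun x hx => h4.2 x (hst _ hx)
  exact h.cl_unique h5.1 h1.1

theorem Opt.pos (h : PD B) {g g0 : G} {β l : E} (ho : Opt B St g β) (hf : (St g0).Finite) (hn : (St g0).Nonempty)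
    (hl : ∀ s ∈ St g0, 0 < B l s) : β ≠ 0 := by
  obtain ⟨γ, hγ⟩ := h.exists_cl hf hn
  have h1 := lt_of_hull hl hγ.1
  have h2 : γ ≠ 0 := by
    rintro rfl
    simp at h1
  have h3 := (h.pos γ h2).trans_le (ho.2 g0 γ hγ)
  rintro rfl
  simp at h3

/-- lower bounds for the norm of the optimal direction -/
theorem Opt.le_norm (h : PD B) {g g0 : G} {β l : E} (ho : Opt B St g β) (hf : (St g0).Finite) (hn : (St g0).Nonempty)
    (hl : ∀ s ∈ St g0, B l l ≤ B l s) : B l l ≤ B β β := by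
  obtain ⟨γ, hγ⟩ := h.exists_cl hf hn
  exact (h.le_of_le (le_of_hull hl hγ.1)).trans (ho.2 g0 γ hγ)

end

end Cfsg.Agent.E7P.Kf
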