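import Cfsg.Agent.E7P.Kf.Wt
import Cfsg.Agent.ChevalleyStructure.SteinbergKer

/-!
# S5932: parabolic subgroups, weighted representations and the optimal parabolic subgroup (helper48)

* `Pl K l` : the parabolic subgroup of the real coweight `l`;
* `WRep c R` : matrix representations with weights `c`;
* `bruhat`, `nL_mem`;
* `WRep.kempf` : the optimal parabolic subgroup of an unstable set of vectors.
-/

set_option autoImplicit false
set_option maxRecDepth 100000

namespace Cfsg.Agent.E7P.Kf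

open Cfsg Cfsg.Lie Matrix
open Cfsg.Agent.ChevalleyStructure Cfsg.Agent.ChevalleyStructure.StBasic Cfsg.Agent.H129.StCover
open Cfsg.Agent.ChevalleyStructure.SteinbergKer Cfsg.Agent.ChevalleyStructure.SteinbergBruhat
open Cfsg.Agent.H943.E7V.Block (D1 rho)
open Cfsg.Agent.H944.E7Two (e7T)
open Cfsg.Agent.R2.T1

universe u
variable {K : Type u} [Field K]

theorem xs_mul (r : ℕ) (s t : K) : xs K r s * xs K r t = xs K r (s + t) := St.Rels.stGen_add' r s t

theorem xs_inv (r : ℕ) (t : K) : (xs K r t)⁻¹ = xs K r (-t) := St.Rels.stGen_inv r t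

theorem xs_zero (r : ℕ) : xs K r 0 = 1 := St.Rels.stGen_zero r

/-- the characters of the torus -/
def ch (c : Fin 7 → ℤ) (a : Fin chevE7.rank → Kˣ) : Kˣ := ∏ i : Fin chevE7.rank, a i ^ c i

theorem ch_add (c d : Fin 7 → ℤ) (a : Fin chevE7.rank → Kˣ) : ch (c + d) a = ch c a * ch d a := by
  unfold ch
  rw [← Finset.prod_mul_distrib]
  exact Finset.prod_congr rfl fun i _ => zpow_add _ _ _

theorem ch_zero (a : Fin chevE7.rank → Kˣ) : ch 0 a = 1 := by
  unfold ch
  exact Finset.prod_eq_one fun i _ => zpow_zero _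

theorem ch_neg (c : Fin 7 → ℤ) (a : Fin chevE7.rank → Kˣ) : ch (-c) a = (ch c a)⁻¹ := by
  apply eq_inv_of_mul_eq_one_left
  rw [← ch_add, neg_add_cancel, ch_zero]

theorem ch_inv (c : Fin 7 → ℤ) (a : Fin chevE7.rank → Kˣ) : ch c a⁻¹ = (ch c a)⁻¹ := by
  unfold ch
  rw [← Finset.prod_inv_distrib]
  exact Finset.prod_congr rfl fun i _ => inv_zpow _ _

theorem ch_zsmul (m : ℤ) (c : Fin 7 → ℤ) (a : Fin chevE7.rank → Kˣ) : ch (m • c) a = ch c a ^ m := by
  unfold ch
  rw [← Finset.prod_zpow]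
  exact Finset.prod_congr rfl fun i _ => by rw [← _root_.zpow_mul, mul_comm]; rfl

theorem ch_sum {ι : Type*} (s : Finset ι) (c : ι → Fin 7 → ℤ) (a : Fin chevE7.rank → Kˣ) :
    ch (∑ t ∈ s, c t) a = ∏ t ∈ s, ch (c t) a := by
  classical
  induction s using Finset.induction_on with
  | empty => rw [Finset.sum_empty, Finset.prod_empty, ch_zero]
  | insert x s hx ih => rw [Finset.sum_insert hx, Finset.prod_insert hx, ch_add, ih]

theorem ch_single (c : Fin 7 → ℤ) (i : Fin chevE7.rank) (x : Kˣ) : ch c (Pi.mulSingle i x) = x ^ c i := by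
  unfold ch
  rw [Finset.prod_eq_single i]
  · rw [Pi.mulSingle_eq_same]
  · intro j _ hj
    rw [Pi.mulSingle_eq_of_ne hj, _root_.one_zpow]
  · intro h; exact absurd (Finset.mem_univ _) h

theorem ch_sAct (c : Fin 7 → ℤ) (j : Fin chevE7.rank) (a : Fin chevE7.rank → Kˣ) :
    ch c (sAct chevE7 K j a) = ch (c - c j • rc (chevE7.simple j)) a := by
  rw [sub_eq_add_neg, ch_add, ch_neg, ch_zsmul]
  unfold ch
  have h1 : ∀ i : Fin chevE7.rank, sAct chevE7 K j a i ^ c i = a i ^ c i *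
      (if i = j then (∏ m, a m ^ chevE7.cartan m (chevE7.simple j))⁻¹ ^ c j else 1) := by
    intro i
    show (if i = j then _ else _) ^ _ = _
    split_ifs with h
    · subst h
      rw [mul_zpow]
    · rw [mul_one]
  rw [Finset.prod_congr rfl fun i _ => h1 i, Finset.prod_mul_distrib, Finset.prod_ite_eq', if_pos (Finset.mem_univ _),
    _root_.inv_zpow]
  rfl

theorem exists_zpow_ne [Infinite K] {n : ℤ} (hn : n ≠ 0) : ∃ x : Kˣ, x ^ n ≠ 1 := by
  by_contra hc
  push Not at hc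
  have : NeZero n.natAbs := ⟨Int.natAbs_ne_zero.2 hn⟩
  have h1 : ∀ x : Kˣ, x ∈ rootsOfUnity n.natAbs K := by
    intro x
    rw [mem_rootsOfUnity]
    rcases Int.natAbs_eq n with h | h
    · rw [← zpow_natCast, ← h, hc]
    · have h2 := hc x⁻¹
      rwa [h, _root_.inv_zpow, _root_.zpow_neg, inv_inv, zpow_natCast] at h2
  have h2 : Finite Kˣ := Finite.of_injective (fun x : Kˣ => (⟨x, h1 x⟩ : rootsOfUnity n.natAbs K))
    fun x y h => congrArg Subtype.val h
  have h3 : Finite K := Finite.of_surjective (fun o : Option Kˣ => o.elim 0 Units.val) fun x => by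
    by_cases hx : x = 0
    · exact ⟨none, hx.symm⟩
    · exact ⟨some (Units.mk0 x hx), rfl⟩
  exact not_finite K

theorem ch_sep [Infinite K] {c d : Fin 7 → ℤ} (h : ∀ a : Fin chevE7.rank → Kˣ, ch c a = ch d a) : c = d := by
  funext i
  by_contra hne
  obtain ⟨x, hx⟩ := exists_zpow_ne (K := K) (sub_ne_zero.2 hne)
  have h1 := h (Pi.mulSingle (show Fin chevE7.rank from i) x)
  rw [ch_single, ch_single] at h1
  apply hx
  rw [_root_.zpow_sub]
  exact mul_inv_eq_one.2 h1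

variable (K) in
/-- the simple reflections in the group -/
def ns (i : Fin 7) : Gh K := stn chevE7 (chevE7.simple i) (1 : K)

variable (K) in
/-- their products -/
def nL (l : List (Fin 7)) : Gh K := (l.map (ns K)).prod

theorem nL_nil : nL K [] = 1 := rfl

theorem nL_cons (i : Fin 7) (l : List (Fin 7)) : nL K (i :: l) = ns K i * nL K l := rfl

theorem nL_append (l l' : List (Fin 7)) : nL K (l ++ l') = nL K l * nL K l' := by
  unfold nL
  rw [List.map_append, List.prod_append]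

theorem ns_eq (i : Fin 7) : ns K i = xs K (chevE7.simple i) 1 * xs K (125 - chevE7.simple i) (-1) *
    xs K (chevE7.simple i) 1 := by
  have h := St.Rels.mk_stN (D := chevE7) (K := K) (chevE7.simple i) 1
  have h2 : chevE7.neg (chevE7.simple i) = 125 - chevE7.simple i := neg7 (simple_lt7 i i.2)
  rw [h2, inv_one] at h
  exact h

variable (K) in
/-- the parabolic subgroup of a real coweight -/
def Pl (l : E) : Subgroup (Gh K) :=
  Subgroup.closure {g | (∃ r < 126, ∃ t : K, 0 ≤ bf l (rv r) ∧ g = xs K r t) ∨ ∃ a, g = Phi K a}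

theorem xs_mem_Pl {l : E} {r : ℕ} (hr : r < 126) (h : 0 ≤ bf l (rv r)) (t : K) : xs K r t ∈ Pl K l :=
  Subgroup.subset_closure (Or.inl ⟨r, hr, t, h, rfl⟩)

theorem Phi_mem_Pl (l : E) (a : Fin chevE7.rank → Kˣ) : Phi K a ∈ Pl K l :=
  Subgroup.subset_closure (Or.inr ⟨a, rfl⟩)

theorem Pl_induction {l : E} {P : Gh K → Prop} (h1 : P 1) (hm : ∀ a b, a ∈ Pl K l → b ∈ Pl K l → P a → P b → P (a * b))
    (hx : ∀ r < 126, 0 ≤ bf l (rv r) → ∀ t, P (xs K r t)) (hp : ∀ a, P (Phi K a)) {g : Gh K} (hg : g ∈ Pl K l) :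
    P g := by
  unfold Pl at hg
  induction hg using Subgroup.closure_induction'' with
  | mem y hy =>
    rcases hy with ⟨r, hr, t, h, rfl⟩ | ⟨a, rfl⟩
    · exact hx r hr h t
    · exact hp a
  | inv_mem y hy =>
    rcases hy with ⟨r, hr, t, h, rfl⟩ | ⟨a, rfl⟩
    · rw [xs_inv]; exact hx r hr h _
    · rw [← map_inv]; exact hp _
  | one => exact h1
  | mul a b ha hb iha ihb => exact hm a b ha hb iha ihb

theorem Pl_le {l : E} {S : Subgroup (Gh K)} (hx : ∀ r < 126, 0 ≤ bf l (rv r) → ∀ t, xs K r t ∈ S)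
    (hp : ∀ a, Phi K a ∈ S) : Pl K l ≤ S := fun _ hg =>
  Pl_induction (P := fun g => g ∈ S) (one_mem _) (fun _ _ _ _ => mul_mem) hx hp hg

theorem Pl_mono {l m : E} (h : ∀ r < 126, 0 ≤ bf l (rv r) → 0 ≤ bf m (rv r)) : Pl K l ≤ Pl K m :=
  Pl_le (fun r hr h1 t => xs_mem_Pl hr (h r hr h1) t) (Phi_mem_Pl m)

theorem emb_mem_Pl {K' : Type u} [Field K'] (f : K →+* K') {l : E} {g : Gh K} (hg : g ∈ Pl K l) : emb f g ∈ Pl K' l := by
  refine Pl_induction (P := fun g => emb f g ∈ Pl K' l) ?_ ?_ ?_ ?_ hg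
  · rw [map_one]; exact one_mem _
  · intro a b _ _ ha hb
    rw [map_mul]; exact mul_mem ha hb
  · intro r hr h t
    rw [emb_xs]; exact xs_mem_Pl hr h _
  · intro a
    rw [emb_Phi]; exact Phi_mem_Pl _ _

/-! ### the Bruhat decomposition -/

theorem hth (r : ℕ) (t : K) (_ : r < chevE7.nroots) :
    ((StTheta.thetaGL e7T.inList K (chevE7.stGen K r t) : GL chevE7.Idx K) : Matrix chevE7.Idx chevE7.Idx K) =
      chevE7.x K r t := StTheta.theta_stGen e7T.inList r t

theorem good7 : RootCombGood.Good chevE7 := RootComb.good_of_mem e7T.inList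

theorem axs : (rd good7 K).Axioms := axioms_rd e7T.inList (StTheta.thetaGL e7T.inList K) hth good7

theorem Hb_le {h : Gh K} (hh : h ∈ Hb chevE7 K) : ∃ a, h = Phi K a := by
  have h1 : Hb chevE7 K ≤ (Phi K).range := by
    unfold Hb
    rw [Subgroup.closure_le]
    rintro _ ⟨i, t, hi, ht, rfl⟩
    exact ⟨Pi.mulSingle ⟨i, hi⟩ (Units.mk0 t ht), isPhi.single ⟨i, hi⟩ _⟩
  obtain ⟨a, ha⟩ := h1 hh
  exact ⟨a, ha.symm⟩

theorem B_le {l : E} (hl : Dom l) : (rd good7 K).B ≤ Pl K l := by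
  refine sup_le (iSup₂_le fun r hr => ?_) fun h hh => ?_
  · rintro _ ⟨t, rfl⟩
    exact xs_mem_Pl r.2 (hl.pos r.2 ((chk_pos r r.2).1.2 hr)) t
  · obtain ⟨a, rfl⟩ := Hb_le hh
    exact Phi_mem_Pl l a

theorem nW_eq (l : List (Fin 7)) : (rd good7 K).nW l = nL K l := rfl

/-- **the Bruhat decomposition** -/
theorem bruhat (g : Gh K) : ∃ (b b' : Gh K) (l : List (Fin 7)), (∀ m, Dom m → b ∈ Pl K m) ∧ (∀ m, Dom m → b' ∈ Pl K m) ∧
    g = b * nL K l * b' := by
  obtain ⟨b, hb, l, b', hb', h⟩ := axs.exists_bruhat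
    (generates e7T.inList (StTheta.thetaGL e7T.inList K) hth good7) g
  exact ⟨b, b', l, fun m hm => B_le hm hb, fun m hm => B_le hm hb', h⟩

theorem wL_rv (l : List (Fin 7)) (r : Fin chevE7.nroots) : wL l (rv r) = rv ((rd good7 K).wW l r) := by
  induction l with
  | nil => rfl
  | cons i l ih =>
    rw [wL_cons, ih, sr_rv i ((rd good7 K).wW l r).2]
    rfl

/-! ### weighted representations -/

section
variable {I : Type*} [Fintype I] [DecidableEq I]

/-- representations with weights -/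
structure WRep (c : I → Fin 7 → ℤ) (R : Gh K →* Matrix I I K) : Prop where
  tor : ∀ a, R (Phi K a) = diagonal fun i => ((ch (c i) a : Kˣ) : K)
  root : ∀ r < 126, ∀ (t : K) (i j : I), R (xs K r t) i j ≠ 0 → ∃ m : ℕ, c i = c j + m • rc r
  frob : ∀ (s : K →+* K) (g : Gh K), R (emb s g) = (R g).map s

/-- monomial elements -/
def Mon (c : I → Fin 7 → ℤ) (R : Gh K →* Matrix I I K) (n : Gh K) (w : E →ₗ[ℝ] E) : Prop :=
  ∀ i j, R n i j ≠ 0 → cv (c i) = w (cv (c j))

variable {c : I → Fin 7 → ℤ} {R : Gh K →* Matrix I I K}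

theorem exists_mid {a b : Gh K} {i j : I} (h : R (a * b) i j ≠ 0) : ∃ k, R a i k ≠ 0 ∧ R b k j ≠ 0 := by
  rw [map_mul, mul_apply] at h
  obtain ⟨k, -, hk⟩ := Finset.exists_ne_zero_of_sum_ne_zero h
  exact ⟨k, left_ne_zero_of_mul hk, right_ne_zero_of_mul hk⟩

theorem eq_of_one {i j : I} (h : R 1 i j ≠ 0) : i = j := by
  by_contra hne
  rw [map_one, one_apply_ne hne] at h
  exact h rfl

theorem Mon.mul {a b : Gh K} {w w' : E →ₗ[ℝ] E} (ha : Mon c R a w) (hb : Mon c R b w') : Mon c R (a * b) (w ∘ₗ w') := by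
  intro i j h
  obtain ⟨k, h1, h2⟩ := exists_mid h
  rw [ha i k h1, hb k j h2]
  rfl

theorem WRep.eq_of_Phi (h : WRep c R) {a : Fin chevE7.rank → Kˣ} {i j : I} (hij : R (Phi K a) i j ≠ 0) : i = j := by
  by_contra hne
  rw [h.tor, diagonal_apply_ne _ hne] at hij
  exact hij rfl

theorem WRep.mon_Phi (h : WRep c R) (a : Fin chevE7.rank → Kˣ) : Mon c R (Phi K a) LinearMap.id := by
  intro i j hij
  rw [h.eq_of_Phi hij]
  rfl

theorem WRep.mon_ns [Infinite K] (h : WRep c R) (k : Fin 7) : Mon c R (ns K k) (sr k) := by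
  intro i j hij
  have h1 : c j = c i - c i k • rc (chevE7.simple k) := by
    refine ch_sep (K := K) fun a => ?_
    have h2 : ns K k * Phi K a = Phi K (sAct chevE7 K k a) * ns K k := by
      exact mul_inv_eq_iff_eq_mul.1 (conj_n_phi e7T.inList isPhi k a)
    have h3 := congrFun (congrFun (congrArg R h2) i) j
    rw [map_mul, map_mul, h.tor, h.tor, mul_diagonal, diagonal_mul, mul_comm] at h3
    have h4 := mul_right_cancel₀ hij h3
    exact (Units.ext h4).trans (ch_sAct (c i) k a)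
  rw [h1, ← sr_cv, sr_sr]

theorem WRep.mon_nL [Infinite K] (h : WRep c R) (l : List (Fin 7)) : Mon c R (nL K l) (wL l) := by
  induction l with
  | nil =>
    intro i j hij
    rw [eq_of_one hij]
    rfl
  | cons k l ih => exact (h.mon_ns k).mul ih

/-- the parabolic subgroups act by triangular matrices -/
theorem WRep.tri (h : WRep c R) {l : E} {g : Gh K} (hg : g ∈ Pl K l) :
    ∀ i j, R g i j ≠ 0 → bf l (cv (c j)) ≤ bf l (cv (c i)) := by
  refine Pl_induction (P := fun g => ∀ i j, R g i j ≠ 0 → bf l (cv (c j)) ≤ bf l (cv (c i))) ?_ ?_ ?_ ?_ hg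
  · intro i j hij
    rw [eq_of_one hij]
  · intro a b _ _ ha hb i j hij
    obtain ⟨k, h1, h2⟩ := exists_mid hij
    exact (hb k j h2).trans (ha i k h1)
  · intro r hr h0 t i j hij
    obtain ⟨m, hm⟩ := h.root r hr t i j hij
    rw [hm, cv_add, cv_nsmul, map_add, map_smul, smul_eq_mul]
    have : 0 ≤ (m : ℝ) * bf l (cv (rc r)) := mul_nonneg (Nat.cast_nonneg m) h0
    linarith
  · intro a i j hij
    rw [h.eq_of_Phi hij]

end

/-- the 56-dimensional module -/
theorem wrep_V : WRep wc (rho K) where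
  tor a := rho_Phi a
  root r hr t i j hij := by
    rw [rho_xs hr] at hij
    by_cases h : i = j
    · exact ⟨0, by rw [h, zero_smul, add_zero]⟩
    · rw [if_neg h, zero_add] at hij
      have h1 : nz r i j ≠ 0 := by
        intro h0
        rw [h0] at hij
        simp at hij
      obtain ⟨e, he, -⟩ := nz_ne h1
      exact ⟨1, by rw [one_smul]; exact wc_add hr he⟩
  frob s g := rho_emb s g

theorem exists_ne {I : Type*} [Fintype I] [DecidableEq I] (R : Gh K →* Matrix I I K) (g : Gh K) (j : I) :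
    ∃ i, R g i j ≠ 0 := by
  have h : R (g⁻¹ * g) j j ≠ 0 := by
    rw [inv_mul_cancel, map_one, one_apply_eq]
    exact one_ne_zero
  obtain ⟨k, -, hk⟩ := exists_mid h
  exact ⟨k, hk⟩

theorem mon_unique {n : Gh K} {w w' : E →ₗ[ℝ] E} (h : Mon wc (rho K) n w) (h' : Mon wc (rho K) n w') : w = w' := by
  refine ext_wv fun s => ?_
  obtain ⟨i, hi⟩ := exists_ne (rho K) n s
  exact (h i s hi).symm.trans (h' i s hi)

theorem ns_mem_Pl {l : E} {i : Fin 7} (h : l i = 0) : ns K i ∈ Pl K l := by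
  have hi := simple_lt7 i i.2
  have h1 : bf l (rv (chevE7.simple i)) = 0 := (bf_al l i).trans h
  have h2 : bf l (rv (125 - chevE7.simple i)) = 0 := by rw [rv_neg hi, map_neg, h1, neg_zero]
  rw [ns_eq]
  exact mul_mem (mul_mem (xs_mem_Pl hi h1.ge _) (xs_mem_Pl (by omega) h2.ge _)) (xs_mem_Pl hi h1.ge _)

/-- **the stabiliser of a dominant vector** -/
theorem nL_mem [Infinite K] {β : E} (hβ : Dom β) : ∀ (k : ℕ) (l : List (Fin 7)), l.length ≤ k → wL l β = β →
    nL K l ∈ Pl K β := by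
  have key : ∀ (l l' : List (Fin 7)) (i : Fin 7) (h : Gh K), h ∈ Hb chevE7 K → nL K l * ns K i = nL K l' * h →
      ∀ x, wL l' x = wL l (sr i x) := by
    intro l l' i h hh e x
    obtain ⟨a, rfl⟩ := Hb_le hh
    have h1 := ((wrep_V (K := K)).mon_nL l).mul (wrep_V.mon_ns i)
    have h2 := ((wrep_V (K := K)).mon_nL l').mul (wrep_V.mon_Phi a)
    rw [e] at h1
    exact DFunLike.congr_fun (mon_unique h2 h1) x
  intro k
  induction k with
  | zero =>
    intro l hl _
    rw [List.length_eq_zero_iff.1 (Nat.le_zero.1 hl)]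
    exact one_mem _
  | succ k ih =>
    intro l hl hw
    by_cases hneg : ∃ i : Fin 7, ¬ (rd good7 K).pos ((rd good7 K).wW l ((rd good7 K).sim i))
    · obtain ⟨i, hi⟩ := hneg
      obtain ⟨l', hl', h, hh, e⟩ := axs.deletion l i hi
      have h0 : β i = 0 := by
        refine le_antisymm ?_ (hβ i)
        have h1 : bf β (al i) = bf β (rv ((rd good7 K).wW l ((rd good7 K).sim i))) := by
          rw [← wL_rv, ← wL_iso l, hw]
          rfl
        rw [← bf_al β i, h1]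
        refine hβ.neg ?_
        by_contra h63
        exact hi ((chk_pos _ ((rd good7 K).wW l ((rd good7 K).sim i)).2).1.1 (not_lt.1 h63))
      have h2 : wL l' β = β := by
        rw [key l l' i h hh e, sr_apply, h0, zero_smul, sub_zero, hw]
      have h3 : nL K l = nL K l' * h * (ns K i)⁻¹ := eq_mul_inv_of_mul_eq e
      obtain ⟨a, rfl⟩ := Hb_le hh
      rw [h3]
      have hl2 : List.length (α := Fin 7) l' + 1 = l.length := hl'
      exact mul_mem (mul_mem (ih l' (by omega) h2) (Phi_mem_Pl _ a)) (inv_mem (ns_mem_Pl h0))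
    · push Not at hneg
      rcases List.eq_nil_or_concat l with rfl | ⟨l0, i, rfl⟩
      · exact one_mem _
      rw [List.concat_eq_append] at hl hw hneg ⊢
      have hi : ¬ (rd good7 K).pos ((rd good7 K).wW l0 ((rd good7 K).sim i)) := by
        have h1 : (rd good7 K).pos ((rd good7 K).wW l0 ((rd good7 K).wW [i] ((rd good7 K).sim i))) := by
          exact (congrArg (rd good7 K).pos ((rd good7 K).wW_append l0 [i] ((rd good7 K).sim i))).mp (hneg i)
        have h2 : (rd good7 K).wW [i] ((rd good7 K).sim i) = (rd good7 K).neg ((rd good7 K).sim i) := axs.refl_sim i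
        rw [h2] at h1
        exact (axs.pos_neg _).1 ((congrArg (rd good7 K).pos (axs.wW_neg l0 ((rd good7 K).sim i))).mp h1)
      obtain ⟨l', hl', h, hh, e⟩ := axs.deletion l0 i hi
      have h2 : wL l' β = β := by
        rw [key l0 l' i h hh e]
        rw [wL_append] at hw
        exact hw
      have h3 : nL K (l0 ++ [i]) = nL K l' * h := by
        rw [nL_append, nL_cons, nL_nil, mul_one]
        exact e
      obtain ⟨a, rfl⟩ := Hb_le hh
      rw [h3]
      rw [List.length_append] at hl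
      have hl2 : List.length (α := Fin 7) l' + 1 = l0.length := hl'
      have hl3 : l0.length + 1 ≤ k + 1 := hl
      exact mul_mem (ih l' (by omega) h2) (Phi_mem_Pl _ a)

/-! ### the optimal parabolic subgroup -/

section
variable {I : Type*} [Fintype I] [DecidableEq I]

/-- the weights which occur in the translate of `X` -/
def St (c : I → Fin 7 → ℤ) (R : Gh K →* Matrix I I K) (X : Set (I → K)) (g : Gh K) : Set E :=
  {y | ∃ i, y = cv (c i) ∧ ∃ v ∈ X, (R g⁻¹ *ᵥ v) i ≠ 0}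

variable {c : I → Fin 7 → ℤ} {R : Gh K →* Matrix I I K} {X : Set (I → K)}

omit [DecidableEq I] in
theorem exists_col {A : Matrix I I K} {v : I → K} {i : I} (h : (A *ᵥ v) i ≠ 0) : ∃ j, A i j ≠ 0 ∧ v j ≠ 0 := by
  rw [mulVec, dotProduct] at h
  obtain ⟨j, -, hj⟩ := Finset.exists_ne_zero_of_sum_ne_zero h
  exact ⟨j, left_ne_zero_of_mul hj, right_ne_zero_of_mul hj⟩

theorem St_sub (g : Gh K) : St c R X g ⊆ Set.range fun i => cv (c i) := by
  rintro _ ⟨i, rfl, -⟩
  exact ⟨i, rfl⟩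

theorem St_finite (g : Gh K) : (St c R X g).Finite := (Set.finite_range _).subset (St_sub g)

theorem St_nonempty (hX : ∃ v ∈ X, v ≠ 0) (g : Gh K) : (St c R X g).Nonempty := by
  obtain ⟨v, hv, h0⟩ := hX
  have h1 : R g⁻¹ *ᵥ v ≠ 0 := by
    intro h
    apply h0
    have h2 : R g *ᵥ (R g⁻¹ *ᵥ v) = v := by rw [mulVec_mulVec, ← map_mul, mul_inv_cancel, map_one, one_mulVec]
    rw [← h2, h, mulVec_zero]
  obtain ⟨i, hi⟩ := Function.ne_iff.1 h1
  exact ⟨_, i, rfl, v, hv, hi⟩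

theorem Mon.St_sub {n : Gh K} {w : E →ₗ[ℝ] E} (h : Mon c R n w) (x : Gh K) : St c R X x ⊆ w '' St c R X (x * n) := by
  rintro _ ⟨i, rfl, v, hv, hi⟩
  have h1 : R x⁻¹ *ᵥ v = R n *ᵥ (R (x * n)⁻¹ *ᵥ v) := by
    rw [mulVec_mulVec, ← map_mul, _root_.mul_inv_rev, mul_inv_cancel_left]
  rw [h1] at hi
  obtain ⟨j, h2, h3⟩ := exists_col hi
  exact ⟨_, ⟨j, rfl, v, hv, h3⟩, (h i j h2).symm⟩

theorem WRep.St_le (h : WRep c R) {l : E} {p : Gh K} (hp : p ∈ Pl K l) {a : ℝ} (x : Gh K)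
    (hx : ∀ s ∈ St c R X x, a ≤ bf l s) : ∀ s ∈ St c R X (x * p), a ≤ bf l s := by
  rintro _ ⟨i, rfl, v, hv, hi⟩
  rw [_root_.mul_inv_rev, map_mul, ← mulVec_mulVec] at hi
  obtain ⟨j, h2, h3⟩ := exists_col hi
  exact (hx _ ⟨j, rfl, v, hv, h3⟩).trans (h.tri (inv_mem hp) i j h2)

theorem WRep.exists_opt [Infinite K] (h : WRep c R) (hX : ∃ v ∈ X, v ≠ 0) :
    ∃ g β, Opt bf (St c R X) g β ∧ Dom β := by
  obtain ⟨g, β, h1, h2⟩ := Kf.exists_opt (St := St c R X) bf_pd (Set.finite_range fun i => cv (c i)) St_sub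
    (St_nonempty hX) al (fun _ => 1) (fun i => by rw [bf_al]; exact one_pos) (fun i => (ns K i)⁻¹) sr
    (fun i x => by rw [bf_al]; rfl) sr_iso (fun i g => by
      have h3 := (h.mon_ns i).St_sub (X := X) (g * (ns K i)⁻¹)
      rwa [inv_mul_cancel_right] at h3)
  exact ⟨g, β, h1, fun i => by rw [← bf_al β i]; exact h2 i⟩

/-- **uniqueness of the optimal coset** -/
theorem WRep.opt_mem [Infinite K] (h : WRep c R) (hX : ∃ v ∈ X, v ≠ 0) {g g' : Gh K} {β : E}
    (ho : Opt bf (St c R X) g β) (hβ : Dom β) (hg' : ∀ s ∈ St c R X g', bf β β ≤ bf β s) : g⁻¹ * g' ∈ Pl K β := by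
  obtain ⟨b, b', l, hb, hb', e⟩ := bruhat (g⁻¹ * g')
  have h1 := ho.move bf_pd (St_finite g') (St_nonempty hX g') hg'
  have h2 : wL l β = β := ho.fix (b := b) (n := nL K l) (b' := b') bf_pd h1.1 St_finite (St_nonempty hX)
    (by rw [mul_assoc, mul_assoc, ← mul_assoc b, ← e, mul_inv_cancel_left])
    (fun x => h.St_le (hb β hβ) x) (fun x => h.St_le (inv_mem (hb' β hβ)) x) (wL l) (wL_iso l) (h.mon_nL l).St_sub
  rw [e]
  exact mul_mem (mul_mem (hb β hβ) (nL_mem hβ _ l le_rfl h2)) (hb' β hβ)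

theorem St_mul_sub {y : Gh K} (hy : ∀ v ∈ X, R y⁻¹ *ᵥ v ∈ X) (g : Gh K) : St c R X (y * g) ⊆ St c R X g := by
  rintro _ ⟨i, rfl, v, hv, hi⟩
  rw [_root_.mul_inv_rev, map_mul, ← mulVec_mulVec] at hi
  exact ⟨i, rfl, _, hy v hv, hi⟩

theorem WRep.St_emb_sub (h : WRep c R) {s : K →+* K} (hs : ∀ v ∈ X, ∃ v' ∈ X, v = fun i => s (v' i)) (g : Gh K) :
    St c R X (emb s g) ⊆ St c R X g := by
  rintro _ ⟨i, rfl, v, hv, hi⟩
  obtain ⟨v', hv', rfl⟩ := hs v hv
  refine ⟨i, rfl, v', hv', fun h0 => hi ?_⟩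
  rw [← map_inv, h.frob]
  have h1 := RingHom.map_mulVec s (R g⁻¹) v' i
  rw [h0, map_zero] at h1
  exact h1.symm

/-- unstable sets of vectors -/
def Unst (c : I → Fin 7 → ℤ) (R : Gh K →* Matrix I I K) (X : Set (I → K)) : Prop :=
  (∃ v ∈ X, v ≠ 0) ∧ ∃ (g : Gh K) (l : E), ∀ v ∈ X, ∀ i, (R g⁻¹ *ᵥ v) i ≠ 0 → 0 < bf l (cv (c i))

theorem Unst.ne_zero (hX : Unst c R X) {g : Gh K} {β : E} (ho : Opt bf (St c R X) g β) : β ≠ 0 := by
  obtain ⟨h0, g0, l, hl⟩ := hX
  refine ho.pos (g0 := g0) (l := l) bf_pd (St_finite g0) (St_nonempty h0 g0) ?_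
  rintro _ ⟨i, rfl, v, hv, hi⟩
  exact hl v hv i hi

/-- **the optimal parabolic subgroup** -/
theorem WRep.kempf [Infinite K] (h : WRep c R) (hX : Unst c R X) : ∃ (g : Gh K) (β : E), β ≠ 0 ∧ Dom β ∧
    Opt bf (St c R X) g β ∧ (∀ y : Gh K, (∀ v ∈ X, R y⁻¹ *ᵥ v ∈ X) → g⁻¹ * y * g ∈ Pl K β) ∧
    ∀ s : K →+* K, (∀ v ∈ X, ∃ v' ∈ X, v = fun i => s (v' i)) → g⁻¹ * emb s g ∈ Pl K β := by
  obtain ⟨g, β, ho, hβ⟩ := h.exists_opt hX.1
  refine ⟨g, β, hX.ne_zero ho, hβ, ho, fun y hy => ?_, fun s hs => ?_⟩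
  · rw [mul_assoc]
    exact h.opt_mem hX.1 ho hβ fun x hx => ho.1.2 x (St_mul_sub hy g hx)
  · exact h.opt_mem hX.1 ho hβ fun x hx => ho.1.2 x (h.St_emb_sub hs g hx)

end

end Cfsg.Agent.E7P.Kf
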